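import Groth.Agent.Lib.Helper6.Quadric.Colen

set_option linter.unusedSectionVars false
set_option linter.unusedVariables false
set_option linter.unusedSimpArgs false
set_option autoImplicit false
set_option maxHeartbeats 400000

noncomputable section

namespace Groth.Agent.Lib.Helper6.Quadric

universe u

open MvPolynomial

variable {κ : Type u} [Field κ]

/-- the general polynomial of degree `≤ 2` in two variables -/
def quadForm (a b c d e f : κ) : MvPolynomial (Fin 2) κ :=
  C a + C b * X 0 + C c * X 1 + C d * X 0 ^ 2 + C e * X 0 * X 1 + C f * X 1 ^ 2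

/-- the general polynomial of degree `≤ 1` in two variables -/
def linForm (g h i : κ) : MvPolynomial (Fin 2) κ :=
  C g + C h * X 0 + C i * X 1

theorem pderiv0_quadForm (a b c d e f : κ) :
    pderiv 0 (quadForm a b c d e f) = linForm b (2 * d) e := by
  have h2 : (C (2:κ) : MvPolynomial (Fin 2) κ) = 2 := map_ofNat C 2
  simp only [quadForm, linForm, map_add, Derivation.leibniz, Derivation.leibniz_pow, pderiv_C,
    pderiv_X_self, pderiv_X_of_ne (show (1 : Fin 2) ≠ 0 by decide), smul_eq_mul, smul_zero,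
    mul_zero, add_zero, zero_add, mul_one, C_mul, nsmul_eq_mul, h2]
  simp
  ring

theorem pderiv1_quadForm (a b c d e f : κ) :
    pderiv 1 (quadForm a b c d e f) = linForm c e (2 * f) := by
  have h2 : (C (2:κ) : MvPolynomial (Fin 2) κ) = 2 := map_ofNat C 2
  simp only [quadForm, linForm, map_add, Derivation.leibniz, Derivation.leibniz_pow, pderiv_C,
    pderiv_X_self, pderiv_X_of_ne (show (0 : Fin 2) ≠ 1 by decide), smul_eq_mul, smul_zero,
    mul_zero, add_zero, zero_add, mul_one, C_mul, nsmul_eq_mul, h2]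
  simp
  ring

theorem natDegree_quad_le (α β γ : κ) :
    (Polynomial.C α + Polynomial.C β * Polynomial.X + Polynomial.C γ * Polynomial.X ^ 2).natDegree
      ≤ 3 := by
  compute_degree
  norm_num

theorem natDegree_lin_le (α β : κ) :
    (Polynomial.C α + Polynomial.C β * Polynomial.X).natDegree ≤ 1 := by
  compute_degree

/-! ### First projection: killing `X 1 - C r - C s * X 0` -/

/-- projection killing `X 1 - C r - C s * X 0` -/
def proj1 (r s : κ) : MvPolynomial (Fin 2) κ →ₐ[κ] Polynomial κ :=
  aeval ![Polynomial.X, Polynomial.C r + Polynomial.C s * Polynomial.X]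

theorem proj1_C (r s x : κ) : proj1 r s (C x) = Polynomial.C x := by
  simp [proj1]

theorem proj1_quadForm (r s a b c d e f : κ) :
    proj1 r s (quadForm a b c d e f) =
      Polynomial.C (a + c * r + f * r ^ 2)
        + Polynomial.C (b + c * s + e * r + 2 * f * r * s) * Polynomial.X
        + Polynomial.C (d + e * s + f * s ^ 2) * Polynomial.X ^ 2 := by
  simp only [quadForm, map_add, map_mul, map_pow, proj1_C]
  simp only [proj1, aeval_X, Matrix.cons_val_zero, Matrix.cons_val_one, Polynomial.C_add,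
    Polynomial.C_mul, Polynomial.C_pow]
  have h2 : (Polynomial.C (2:κ) : Polynomial κ) = 2 := map_ofNat Polynomial.C 2
  rw [h2]
  ring

theorem proj1_linForm (r s g h i : κ) :
    proj1 r s (linForm g h i) =
      Polynomial.C (g + i * r) + Polynomial.C (h + i * s) * Polynomial.X := by
  simp only [linForm, map_add, map_mul, map_pow, proj1_C]
  simp only [proj1, aeval_X, Matrix.cons_val_zero, Matrix.cons_val_one, Polynomial.C_add,
    Polynomial.C_mul, Polynomial.C_pow]
  ring

theorem proj1_surjective (r s : κ) : Function.Surjective (proj1 r s) := by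
  have h : (proj1 r s).comp (Polynomial.aeval (X 0 : MvPolynomial (Fin 2) κ))
      = AlgHom.id κ (Polynomial κ) := by
    apply Polynomial.algHom_ext
    simp [proj1]
  intro P
  exact ⟨Polynomial.aeval (X 0 : MvPolynomial (Fin 2) κ) P, by
    simpa using DFunLike.congr_fun h P⟩

theorem ker_proj1_le (r s : κ) :
    RingHom.ker (proj1 r s : MvPolynomial (Fin 2) κ →+* Polynomial κ)
      ≤ Ideal.span {(X 1 - C r - C s * X 0 : MvPolynomial (Fin 2) κ)} := by
  set J : Ideal (MvPolynomial (Fin 2) κ) := Ideal.span {(X 1 - C r - C s * X 0 : MvPolynomial (Fin 2) κ)}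
    with hJ
  have h : (Ideal.Quotient.mkₐ κ J).comp
      ((Polynomial.aeval (X 0 : MvPolynomial (Fin 2) κ)).comp (proj1 r s))
      = Ideal.Quotient.mkₐ κ J := by
    apply MvPolynomial.algHom_ext
    intro i
    fin_cases i
    · simp [proj1]
    · simp only [Fin.mk_one, Fin.isValue, AlgHom.coe_comp, Function.comp_apply, proj1, aeval_X,
        Matrix.cons_val_one, Matrix.cons_val_zero, Ideal.Quotient.mkₐ_eq_mk]
      rw [Ideal.Quotient.eq]
      have : (Polynomial.aeval (X 0 : MvPolynomial (Fin 2) κ))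
          (Polynomial.C r + Polynomial.C s * Polynomial.X) - X 1
          = -(X 1 - C r - C s * X 0) := by
        simp only [map_add, map_mul, Polynomial.aeval_C, Polynomial.aeval_X,
          MvPolynomial.algebraMap_eq]
        ring
      rw [this]
      exact J.neg_mem (Ideal.subset_span rfl)
  intro z hz
  rw [RingHom.mem_ker] at hz
  have hz' : proj1 r s z = 0 := hz
  have := DFunLike.congr_fun h z
  simp only [AlgHom.coe_comp, Function.comp_apply, hz', map_zero, Ideal.Quotient.mkₐ_eq_mk] at this
  exact Ideal.Quotient.eq_zero_iff_mem.mp this.symm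

theorem caseA1 (I : Ideal (MvPolynomial (Fin 2) κ))
    (hI : ¬ (Module.Finite κ (MvPolynomial (Fin 2) κ ⧸ I) ∧
      Module.finrank κ (MvPolynomial (Fin 2) κ ⧸ I) ≤ 1))
    (r s : κ) (hl : (X 1 - C r - C s * X 0 : MvPolynomial (Fin 2) κ) ∈ I)
    (a b c d e f : κ) (hp : quadForm a b c d e f ∈ I ^ 2) :
    quadForm a b c d e f = C f * (X 1 - C r - C s * X 0) ^ 2 := by
  have hker : RingHom.ker (proj1 r s : MvPolynomial (Fin 2) κ →+* Polynomial κ) ≤ I :=
    (ker_proj1_le r s).trans ((Ideal.span_singleton_le_iff_mem I).mpr hl)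
  have hπ := proj1_surjective r s
  have e1 := proj_eq_zero_of_mem_sq I hI (proj1 r s) hπ hker _ hp
    (by rw [proj1_quadForm]; exact natDegree_quad_le _ _ _)
  have e2 := proj_eq_zero_of_mem I hI (proj1 r s) hπ hker _ (pderiv_mem_of_mem_sq I 0 hp)
    (by rw [pderiv0_quadForm, proj1_linForm]; exact natDegree_lin_le _ _)
  have e3 := proj_eq_zero_of_mem I hI (proj1 r s) hπ hker _ (pderiv_mem_of_mem_sq I 1 hp)
    (by rw [pderiv1_quadForm, proj1_linForm]; exact natDegree_lin_le _ _)
  rw [proj1_quadForm] at e1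
  rw [pderiv0_quadForm, proj1_linForm] at e2
  rw [pderiv1_quadForm, proj1_linForm] at e3
  obtain ⟨E1, E2, E3⟩ := quad_eq_zero e1
  obtain ⟨E4, E5⟩ := lin_eq_zero e2
  obtain ⟨E6, E7⟩ := lin_eq_zero e3
  have he : e = -2 * f * s := by linear_combination E7
  have hc : c = -2 * f * r := by linear_combination E6
  have hb : b = 2 * f * r * s := by linear_combination E4 - r * E7
  have hd : d = f * s ^ 2 := by linear_combination E3 - s * E7
  have ha : a = f * r ^ 2 := by linear_combination E1 - r * E6
  have h2 : (C (2:κ) : MvPolynomial (Fin 2) κ) = 2 := map_ofNat C 2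
  rw [ha, hb, hc, hd, he]
  simp only [quadForm, C_mul, C_pow, C_neg, h2]
  ring

/-! ### Second projection: killing `X 0 - C r` -/

/-- projection killing `X 0 - C r` -/
def proj2 (r : κ) : MvPolynomial (Fin 2) κ →ₐ[κ] Polynomial κ :=
  aeval ![Polynomial.C r, Polynomial.X]

theorem proj2_C (r x : κ) : proj2 r (C x) = Polynomial.C x := by
  simp [proj2]

theorem proj2_quadForm (r a b c d e f : κ) :
    proj2 r (quadForm a b c d e f) =
      Polynomial.C (a + b * r + d * r ^ 2)
        + Polynomial.C (c + e * r) * Polynomial.X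
        + Polynomial.C f * Polynomial.X ^ 2 := by
  simp only [quadForm, map_add, map_mul, map_pow, proj2_C]
  simp only [proj2, aeval_X, Matrix.cons_val_zero, Matrix.cons_val_one, Polynomial.C_add,
    Polynomial.C_mul, Polynomial.C_pow]
  ring

theorem proj2_linForm (r g h i : κ) :
    proj2 r (linForm g h i) =
      Polynomial.C (g + h * r) + Polynomial.C i * Polynomial.X := by
  simp only [linForm, map_add, map_mul, map_pow, proj2_C]
  simp only [proj2, aeval_X, Matrix.cons_val_zero, Matrix.cons_val_one, Polynomial.C_add,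
    Polynomial.C_mul, Polynomial.C_pow]

theorem proj2_surjective (r : κ) : Function.Surjective (proj2 r) := by
  have h : (proj2 r).comp (Polynomial.aeval (X 1 : MvPolynomial (Fin 2) κ))
      = AlgHom.id κ (Polynomial κ) := by
    apply Polynomial.algHom_ext
    simp [proj2]
  intro P
  exact ⟨Polynomial.aeval (X 1 : MvPolynomial (Fin 2) κ) P, by
    simpa using DFunLike.congr_fun h P⟩

theorem ker_proj2_le (r : κ) :
    RingHom.ker (proj2 r : MvPolynomial (Fin 2) κ →+* Polynomial κ)
      ≤ Ideal.span {(X 0 - C r : MvPolynomial (Fin 2) κ)} := by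
  set J : Ideal (MvPolynomial (Fin 2) κ) := Ideal.span {(X 0 - C r : MvPolynomial (Fin 2) κ)}
    with hJ
  have h : (Ideal.Quotient.mkₐ κ J).comp
      ((Polynomial.aeval (X 1 : MvPolynomial (Fin 2) κ)).comp (proj2 r))
      = Ideal.Quotient.mkₐ κ J := by
    apply MvPolynomial.algHom_ext
    intro i
    fin_cases i
    · simp only [Fin.zero_eta, Fin.isValue, AlgHom.coe_comp, Function.comp_apply, proj2, aeval_X,
        Matrix.cons_val_one, Matrix.cons_val_zero, Ideal.Quotient.mkₐ_eq_mk]
      rw [Ideal.Quotient.eq]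
      have : (Polynomial.aeval (X 1 : MvPolynomial (Fin 2) κ))
          (Polynomial.C r) - X 0 = -(X 0 - C r) := by
        simp only [Polynomial.aeval_C, MvPolynomial.algebraMap_eq]
        ring
      rw [this]
      exact J.neg_mem (Ideal.subset_span rfl)
    · simp [proj2]
  intro z hz
  rw [RingHom.mem_ker] at hz
  have hz' : proj2 r z = 0 := hz
  have := DFunLike.congr_fun h z
  simp only [AlgHom.coe_comp, Function.comp_apply, hz', map_zero, Ideal.Quotient.mkₐ_eq_mk] at this
  exact Ideal.Quotient.eq_zero_iff_mem.mp this.symm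

theorem caseA2 (I : Ideal (MvPolynomial (Fin 2) κ))
    (hI : ¬ (Module.Finite κ (MvPolynomial (Fin 2) κ ⧸ I) ∧
      Module.finrank κ (MvPolynomial (Fin 2) κ ⧸ I) ≤ 1))
    (r : κ) (hl : (X 0 - C r : MvPolynomial (Fin 2) κ) ∈ I)
    (a b c d e f : κ) (hp : quadForm a b c d e f ∈ I ^ 2) :
    quadForm a b c d e f = C d * (X 0 - C r) ^ 2 := by
  have hker : RingHom.ker (proj2 r : MvPolynomial (Fin 2) κ →+* Polynomial κ) ≤ I :=
    (ker_proj2_le r).trans ((Ideal.span_singleton_le_iff_mem I).mpr hl)
  have hπ := proj2_surjective r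
  have e1 := proj_eq_zero_of_mem_sq I hI (proj2 r) hπ hker _ hp
    (by rw [proj2_quadForm]; exact natDegree_quad_le _ _ _)
  have e2 := proj_eq_zero_of_mem I hI (proj2 r) hπ hker _ (pderiv_mem_of_mem_sq I 0 hp)
    (by rw [pderiv0_quadForm, proj2_linForm]; exact natDegree_lin_le _ _)
  have e3 := proj_eq_zero_of_mem I hI (proj2 r) hπ hker _ (pderiv_mem_of_mem_sq I 1 hp)
    (by rw [pderiv1_quadForm, proj2_linForm]; exact natDegree_lin_le _ _)
  rw [proj2_quadForm] at e1
  rw [pderiv0_quadForm, proj2_linForm] at e2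
  rw [pderiv1_quadForm, proj2_linForm] at e3
  obtain ⟨E1, E2, E3⟩ := quad_eq_zero e1
  obtain ⟨E4, E5⟩ := lin_eq_zero e2
  obtain ⟨E6, E7⟩ := lin_eq_zero e3
  have he : e = 0 := E5
  have hf : f = 0 := E3
  have hc : c = 0 := by linear_combination E2 - r * E5
  have hb : b = -2 * d * r := by linear_combination E4
  have ha : a = d * r ^ 2 := by linear_combination E1 - r * E4
  have h2 : (C (2:κ) : MvPolynomial (Fin 2) κ) = 2 := map_ofNat C 2
  rw [ha, hb, hc, hf, he]
  simp only [quadForm, C_mul, C_pow, C_neg, h2, C_0]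
  ring

/-- **Case A**: if `I` contains a nonconstant polynomial of degree one. -/
theorem caseA (I : Ideal (MvPolynomial (Fin 2) κ))
    (hI : ¬ (Module.Finite κ (MvPolynomial (Fin 2) κ ⧸ I) ∧
      Module.finrank κ (MvPolynomial (Fin 2) κ ⧸ I) ≤ 1))
    (g h i : κ) (hhi : h ≠ 0 ∨ i ≠ 0) (hl : linForm g h i ∈ I)
    (a b c d e f : κ) (hp : quadForm a b c d e f ∈ I ^ 2) :
    ∃ j g' h' i' : κ, quadForm a b c d e f = C j * (linForm g' h' i') ^ 2 := by
  by_cases hi : i = 0
  · have hh : h ≠ 0 := by
      rcases hhi with hh | hi'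
      · exact hh
      · exact absurd hi hi'
    have hl' : (X 0 - C (-(g / h)) : MvPolynomial (Fin 2) κ) ∈ I := by
      have : (X 0 - C (-(g / h)) : MvPolynomial (Fin 2) κ) = C h⁻¹ * linForm g h i := by
        rw [hi]
        simp only [linForm, C_neg, C_0, zero_mul, add_zero, mul_add, ← mul_assoc, ← C_mul]
        rw [inv_mul_cancel₀ hh, C_1, one_mul, div_eq_inv_mul]
        ring
      rw [this]; exact I.mul_mem_left _ hl
    refine ⟨d, g / h, 1, 0, ?_⟩
    rw [caseA2 I hI _ hl' a b c d e f hp]
    simp only [linForm, C_neg, C_0, C_1, zero_mul, add_zero, one_mul]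
    ring
  · have hl' : (X 1 - C (-(g / i)) - C (-(h / i)) * X 0 : MvPolynomial (Fin 2) κ) ∈ I := by
      have : (X 1 - C (-(g / i)) - C (-(h / i)) * X 0 : MvPolynomial (Fin 2) κ)
          = C i⁻¹ * linForm g h i := by
        simp only [linForm, C_neg, mul_add, ← mul_assoc, ← C_mul]
        rw [inv_mul_cancel₀ hi, C_1, one_mul, div_eq_inv_mul, div_eq_inv_mul]
        ring
      rw [this]; exact I.mul_mem_left _ hl
    refine ⟨f, g / i, h / i, 1, ?_⟩
    rw [caseA1 I hI _ _ hl' a b c d e f hp]
    simp only [linForm, C_neg, C_1, one_mul]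
    ring

end Groth.Agent.Lib.Helper6.Quadric
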