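import Mathlib

set_option linter.unusedSectionVars false
set_option linter.unusedVariables false
set_option autoImplicit false
set_option maxHeartbeats 400000

noncomputable section

namespace Groth.Agent.Lib.Helper6.Quadric

universe u

open MvPolynomial

variable {σ : Type} {κ : Type u} [CommRing κ]

/-- apply an additive map coefficientwise -/
def coeffMap (θ : κ →+ κ) (p : MvPolynomial σ κ) : MvPolynomial σ κ :=
  ∑ m ∈ p.support, monomial m (θ (p.coeff m))

theorem coeff_coeffMap (θ : κ →+ κ) (p : MvPolynomial σ κ) (n : σ →₀ ℕ) :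
    (coeffMap θ p).coeff n = θ (p.coeff n) := by
  classical
  unfold coeffMap
  rw [coeff_sum]
  simp only [coeff_monomial]
  rw [Finset.sum_ite_eq']
  split_ifs with h
  · rfl
  · rw [notMem_support_iff.mp h, map_zero]

theorem coeffMap_add (θ : κ →+ κ) (p q : MvPolynomial σ κ) :
    coeffMap θ (p + q) = coeffMap θ p + coeffMap θ q := by
  ext n
  simp [coeff_coeffMap]

theorem coeffMap_zero (θ : κ →+ κ) : coeffMap θ (0 : MvPolynomial σ κ) = 0 := by
  ext n
  simp [coeff_coeffMap]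

theorem coeffMap_C (θ : κ →+ κ) (a : κ) : coeffMap θ (C a : MvPolynomial σ κ) = C (θ a) := by
  classical
  ext n
  simp only [coeff_coeffMap, coeff_C]
  split_ifs <;> simp

theorem coeffMap_mul (θ : κ →+ κ) (hθ : ∀ a b : κ, θ (a * b) = a * θ b + b * θ a)
    (p q : MvPolynomial σ κ) :
    coeffMap θ (p * q) = p * coeffMap θ q + coeffMap θ p * q := by
  classical
  ext n
  rw [coeff_coeffMap, coeff_mul, map_sum, coeff_add, coeff_mul, coeff_mul, ← Finset.sum_add_distrib]
  refine Finset.sum_congr rfl fun x _ => ?_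
  rw [hθ, coeff_coeffMap, coeff_coeffMap]
  ring

theorem map_one_eq_zero (θ : κ →+ κ) (hθ : ∀ a b : κ, θ (a * b) = a * θ b + b * θ a) :
    θ 1 = 0 := by
  have := hθ 1 1
  simp only [mul_one, one_mul] at this
  have h2 : θ 1 + θ 1 - θ 1 = θ 1 - θ 1 := by rw [← this]
  simpa using h2

theorem coeffMap_X (θ : κ →+ κ) (hθ : ∀ a b : κ, θ (a * b) = a * θ b + b * θ a) (i : σ) :
    coeffMap θ (X i : MvPolynomial σ κ) = 0 := by
  classical
  ext n
  simp only [coeff_coeffMap, coeff_X', coeff_zero]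
  split_ifs
  · exact map_one_eq_zero θ hθ
  · simp

theorem coeffMap_X_pow (θ : κ →+ κ) (hθ : ∀ a b : κ, θ (a * b) = a * θ b + b * θ a) (i : σ)
    (k : ℕ) : coeffMap θ ((X i : MvPolynomial σ κ) ^ k) = 0 := by
  induction k with
  | zero =>
    rw [pow_zero, ← C_1, coeffMap_C, map_one_eq_zero θ hθ, C_0]
  | succ k ih =>
    rw [pow_succ, coeffMap_mul θ hθ, ih, coeffMap_X θ hθ]; simp

theorem coeffMap_C_mul_X_pow (θ : κ →+ κ) (hθ : ∀ a b : κ, θ (a * b) = a * θ b + b * θ a)
    (a : κ) (i : σ) (k : ℕ) :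
    coeffMap θ (C a * (X i : MvPolynomial σ κ) ^ k) = C (θ a) * X i ^ k := by
  rw [coeffMap_mul θ hθ, coeffMap_X_pow θ hθ, coeffMap_C]; simp

/-- a coefficientwise derivation sends `I * I` into `I` -/
theorem coeffMap_mem_of_mem_mul (θ : κ →+ κ) (hθ : ∀ a b : κ, θ (a * b) = a * θ b + b * θ a)
    (I : Ideal (MvPolynomial σ κ)) {z : MvPolynomial σ κ} (hz : z ∈ I * I) :
    coeffMap θ z ∈ I := by
  refine Submodule.mul_induction_on hz ?_ ?_
  · intro a ha b hb
    rw [coeffMap_mul θ hθ]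
    exact I.add_mem (I.mul_mem_right _ ha) (I.mul_mem_left _ hb)
  · intro a b ha hb
    rw [coeffMap_add]; exact I.add_mem ha hb

end Groth.Agent.Lib.Helper6.Quadric
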