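import Mathlib

set_option linter.unusedSectionVars false
set_option linter.unusedVariables false
set_option autoImplicit false
set_option maxHeartbeats 400000

noncomputable section

namespace Groth.Agent.Lib.Helper6.Quadric

universe u

variable {κ : Type u} [Field κ]

/-- the subfield `F + F b` when `b^2 ∈ F`, char 2 -/
def adjoinSqrt [CharP κ 2] (F : Subfield κ) (b : κ) (hb : b * b ∈ F) : Subfield κ where
  carrier := {z | ∃ u ∈ F, ∃ v ∈ F, z = u + v * b}
  mul_mem' := by
    rintro _ _ ⟨u, hu, v, hv, rfl⟩ ⟨u', hu', v', hv', rfl⟩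
    refine ⟨u * u' + v * v' * (b * b), F.add_mem (F.mul_mem hu hu') (F.mul_mem (F.mul_mem hv hv') hb),
      u * v' + u' * v, F.add_mem (F.mul_mem hu hv') (F.mul_mem hu' hv), ?_⟩
    ring
  one_mem' := ⟨1, F.one_mem, 0, F.zero_mem, by ring⟩
  add_mem' := by
    rintro _ _ ⟨u, hu, v, hv, rfl⟩ ⟨u', hu', v', hv', rfl⟩
    exact ⟨u + u', F.add_mem hu hu', v + v', F.add_mem hv hv', by ring⟩
  zero_mem' := ⟨0, F.zero_mem, 0, F.zero_mem, by ring⟩
  neg_mem' := by
    rintro _ ⟨u, hu, v, hv, rfl⟩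
    exact ⟨-u, F.neg_mem hu, -v, F.neg_mem hv, by ring⟩
  inv_mem' := by
    rintro _ ⟨u, hu, v, hv, rfl⟩
    have h2 : (2 : κ) = 0 := CharTwo.two_eq_zero
    have hsq : (u + v * b) * (u + v * b) = u * u + v * v * (b * b) := by
      have : (u + v * b) * (u + v * b) = u * u + v * v * (b * b) + 2 * (u * v * b) := by ring
      rw [this, h2]; ring
    have hw : (u + v * b) * (u + v * b) ∈ F := by
      rw [hsq]; exact F.add_mem (F.mul_mem hu hu) (F.mul_mem (F.mul_mem hv hv) hb)
    refine ⟨((u + v * b) * (u + v * b))⁻¹ * u, F.mul_mem (F.inv_mem hw) hu,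
      ((u + v * b) * (u + v * b))⁻¹ * v, F.mul_mem (F.inv_mem hw) hv, ?_⟩
    by_cases hz : u + v * b = 0
    · rw [hz]; simp
    · field_simp

theorem le_adjoinSqrt [CharP κ 2] (F : Subfield κ) (b : κ) (hb : b * b ∈ F) :
    F ≤ adjoinSqrt F b hb := fun u hu => ⟨u, hu, 0, F.zero_mem, by ring⟩

theorem mem_adjoinSqrt_self [CharP κ 2] (F : Subfield κ) (b : κ) (hb : b * b ∈ F) :
    b ∈ adjoinSqrt F b hb := ⟨0, F.zero_mem, 1, F.one_mem, by ring⟩

/-- **Existence of a derivation** in characteristic two: if `s` is not a square, there is an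
additive map `θ : κ → κ` satisfying the Leibniz rule with `θ s = 1`. -/
theorem exists_derivation_of_not_square [CharP κ 2] (s : κ) (hs : ∀ r : κ, r * r ≠ s) :
    ∃ θ : κ →+ κ, (∀ a b : κ, θ (a * b) = a * θ b + b * θ a) ∧ θ s = 1 := by
  have h2 : (2 : κ) = 0 := CharTwo.two_eq_zero
  -- the set of subfields containing all squares and not containing `s`
  let S : Set (Subfield κ) := {F | (∀ r : κ, r * r ∈ F) ∧ s ∉ F}
  -- the subfield of squares
  let F0 : Subfield κ := (frobenius κ 2).fieldRange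
  have hF0 : F0 ∈ S := by
    refine ⟨fun r => ⟨r, by simp [frobenius_def, pow_two]⟩, ?_⟩
    rintro ⟨r, hr⟩
    exact hs r (by simpa [frobenius_def, pow_two] using hr)
  obtain ⟨F, -, hFS, hFmax⟩ := zorn_le_nonempty₀ S (by
    intro c hcS hc y hy
    refine ⟨sSup c, ⟨fun r => ?_, ?_⟩, fun z hz => le_sSup hz⟩
    · exact (le_sSup hy : y ≤ sSup c) ((hcS hy).1 r)
    · rw [Subfield.mem_sSup_of_directedOn ⟨y, hy⟩ hc.directedOn]
      rintro ⟨F, hF, hsF⟩
      exact (hcS hF).2 hsF) F0 hF0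
  obtain ⟨hFsq, hsF⟩ := hFS
  -- every element is `u + v s`
  have hrep : ∀ b : κ, ∃ u ∈ F, ∃ v ∈ F, b = u + v * s := by
    intro b
    by_cases hbF : b ∈ F
    · exact ⟨b, hbF, 0, F.zero_mem, by ring⟩
    · have hb : b * b ∈ F := hFsq b
      have hle : F ≤ adjoinSqrt F b hb := le_adjoinSqrt F b hb
      have hnot : adjoinSqrt F b hb ∉ S := by
        intro hmem
        have := hFmax hmem hle
        exact hbF (this (mem_adjoinSqrt_self F b hb))
      have hsm : s ∈ adjoinSqrt F b hb := by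
        by_contra hcon
        exact hnot ⟨fun r => hle (hFsq r), hcon⟩
      obtain ⟨u, hu, v, hv, hsuv⟩ := hsm
      have hv0 : v ≠ 0 := by
        rintro rfl
        apply hsF
        rw [hsuv]; simpa using hu
      refine ⟨-(v⁻¹ * u), F.neg_mem (F.mul_mem (F.inv_mem hv) hu), v⁻¹, F.inv_mem hv, ?_⟩
      rw [hsuv]; field_simp; ring
  have huniq : ∀ u ∈ F, ∀ v ∈ F, ∀ u' ∈ F, ∀ v' ∈ F, u + v * s = u' + v' * s → v = v' := by
    intro u hu v hv u' hu' v' hv' h
    by_contra hne
    have hne' : v - v' ≠ 0 := sub_ne_zero.mpr hne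
    apply hsF
    have : s = (u' - u) * (v - v')⁻¹ := by
      field_simp
      linear_combination h
    rw [this]
    exact F.mul_mem (F.sub_mem hu' hu) (F.inv_mem (F.sub_mem hv hv'))
  choose U hU V hV hUV using hrep
  have hVeq : ∀ z : κ, ∀ u ∈ F, ∀ v ∈ F, z = u + v * s → V z = v := by
    intro z u hu v hv hz
    exact huniq (U z) (hU z) (V z) (hV z) u hu v hv ((hUV z).symm.trans hz)
  have hss : s * s ∈ F := hFsq s
  refine ⟨⟨⟨V, ?_⟩, ?_⟩, ?_, ?_⟩
  · exact hVeq 0 0 F.zero_mem 0 F.zero_mem (by ring)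
  · intro a b
    refine hVeq (a + b) (U a + U b) (F.add_mem (hU a) (hU b)) (V a + V b)
      (F.add_mem (hV a) (hV b)) ?_
    conv_lhs => rw [hUV a, hUV b]
    ring
  · intro a b
    show V (a * b) = a * V b + b * V a
    have h1 : V (a * b) = U a * V b + U b * V a := by
      refine hVeq (a * b) (U a * U b + V a * V b * (s * s))
        (F.add_mem (F.mul_mem (hU a) (hU b)) (F.mul_mem (F.mul_mem (hV a) (hV b)) hss))
        (U a * V b + U b * V a)
        (F.add_mem (F.mul_mem (hU a) (hV b)) (F.mul_mem (hU b) (hV a))) ?_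
      conv_lhs => rw [hUV a, hUV b]
      ring
    rw [h1]
    have e1 : a * V b + b * V a = (U a + V a * s) * V b + (U b + V b * s) * V a := by
      rw [← hUV a, ← hUV b]
    have : (U a + V a * s) * V b + (U b + V b * s) * V a
        = U a * V b + U b * V a + 2 * (V a * V b * s) := by ring
    rw [e1, this, h2]; ring
  · show V s = 1
    exact hVeq s 0 F.zero_mem 1 F.one_mem (by ring)

end Groth.Agent.Lib.Helper6.Quadric
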