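import Groth.Agent.Lib.Helper6.Quadric.CaseA
import Groth.Agent.Lib.Helper6.Quadric.CoeffDer
import Groth.Agent.Lib.Helper6.Quadric.Der2

set_option linter.unusedSectionVars false
set_option linter.unusedVariables false
set_option linter.unusedSimpArgs false
set_option autoImplicit false
set_option maxHeartbeats 400000

noncomputable section

namespace Groth.Agent.Lib.Helper6.Quadric

universe u

open MvPolynomial

variable {κ : Type u} [Field κ]

/-- `a + d x^2 + f y^2` -/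
def sqForm (a d f : κ) : MvPolynomial (Fin 2) κ :=
  C a + C d * X 0 ^ 2 + C f * X 1 ^ 2

/-- `z₀ + z₁ x + z₂ y + z₃ x y` -/
def nfForm (z₀ z₁ z₂ z₃ : κ) : MvPolynomial (Fin 2) κ :=
  C z₀ + C z₁ * X 0 + C z₂ * X 1 + C z₃ * (X 0 * X 1)

/-- normal forms modulo `(x^2 + α, y^2 + β)` -/
theorem exists_nfForm (α β : κ) (z : MvPolynomial (Fin 2) κ) :
    ∃ z₀ z₁ z₂ z₃ : κ, ∃ A B : MvPolynomial (Fin 2) κ,
      z = nfForm z₀ z₁ z₂ z₃ + A * (X 0 ^ 2 + C α) + B * (X 1 ^ 2 + C β) := by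
  induction z using MvPolynomial.induction_on with
  | C a => exact ⟨a, 0, 0, 0, 0, 0, by simp [nfForm]⟩
  | add p q hp hq =>
    obtain ⟨z₀, z₁, z₂, z₃, A, B, hp⟩ := hp
    obtain ⟨y₀, y₁, y₂, y₃, A', B', hq⟩ := hq
    refine ⟨z₀ + y₀, z₁ + y₁, z₂ + y₂, z₃ + y₃, A + A', B + B', ?_⟩
    rw [hp, hq]
    simp only [nfForm, C_add]
    ring
  | mul_X p i hp =>
    obtain ⟨z₀, z₁, z₂, z₃, A, B, hp⟩ := hp
    fin_cases i
    · refine ⟨-(z₁ * α), z₀, -(z₃ * α), z₂, A * X 0 + C z₁ + C z₃ * X 1, B * X 0, ?_⟩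
      rw [hp]
      simp only [nfForm, C_add, C_mul, C_neg, Fin.zero_eta, Fin.isValue]
      ring
    · refine ⟨-(z₂ * β), -(z₃ * β), z₀, z₁, A * X 1, B * X 1 + C z₂ + C z₃ * X 0, ?_⟩
      rw [hp]
      simp only [nfForm, C_add, C_mul, C_neg, Fin.mk_one, Fin.isValue]
      ring

section noLin

variable (I : Ideal (MvPolynomial (Fin 2) κ))
  (hI : ¬ (Module.Finite κ (MvPolynomial (Fin 2) κ ⧸ I) ∧
      Module.finrank κ (MvPolynomial (Fin 2) κ ⧸ I) ≤ 1))
  (hno : ∀ g h i : κ, linForm g h i ∈ I → h = 0 ∧ i = 0)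

include hI hno

theorem linForm_mem_iff (g h i : κ) (hl : linForm g h i ∈ I) : g = 0 ∧ h = 0 ∧ i = 0 := by
  obtain ⟨hh, hi⟩ := hno g h i hl
  refine ⟨?_, hh, hi⟩
  apply C_mem_iff_of_colength I hI
  have : linForm g h i = C g := by rw [hh, hi]; simp [linForm]
  rwa [this] at hl

/-- an element `g + h x + i y + x y` of `I` forces `α = - i^2`, `β = - h^2`, `g = i h`. -/
theorem nf_structure (α β : κ) (hu : (X 0 ^ 2 + C α : MvPolynomial (Fin 2) κ) ∈ I)
    (hv : (X 1 ^ 2 + C β : MvPolynomial (Fin 2) κ) ∈ I) (g h i : κ)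
    (hw : nfForm g h i 1 ∈ I) : g = i * h ∧ α = -(i * i) ∧ β = -(h * h) := by
  have h1 : linForm (-(h * α) - i * g) (g - i * h) (-α - i * i) ∈ I := by
    have : linForm (-(h * α) - i * g) (g - i * h) (-α - i * i)
        = X 0 * nfForm g h i 1 - C i * nfForm g h i 1 - (C h + X 1) * (X 0 ^ 2 + C α) := by
      simp only [linForm, nfForm, C_sub, C_mul, C_neg, C_1]
      ring
    rw [this]
    exact I.sub_mem (I.sub_mem (I.mul_mem_left _ hw) (I.mul_mem_left _ hw)) (I.mul_mem_left _ hu)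
  have h2 : linForm (-(i * β) - h * g) (-β - h * h) (g - h * i) ∈ I := by
    have : linForm (-(i * β) - h * g) (-β - h * h) (g - h * i)
        = X 1 * nfForm g h i 1 - C h * nfForm g h i 1 - (C i + X 0) * (X 1 ^ 2 + C β) := by
      simp only [linForm, nfForm, C_sub, C_mul, C_neg, C_1]
      ring
    rw [this]
    exact I.sub_mem (I.sub_mem (I.mul_mem_left _ hw) (I.mul_mem_left _ hw)) (I.mul_mem_left _ hv)
  obtain ⟨-, e1, e2⟩ := linForm_mem_iff I hI hno _ _ _ h1
  obtain ⟨-, e3, -⟩ := linForm_mem_iff I hI hno _ _ _ h2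
  refine ⟨by linear_combination e1, by linear_combination -e2, by linear_combination -e3⟩

end noLin

end Groth.Agent.Lib.Helper6.Quadric

namespace Groth.Agent.Lib.Helper6.Quadric

universe u

open MvPolynomial

variable {κ : Type u} [Field κ]

section psi

variable {L : Type u} [Field L] [Algebra κ L]

/-- the curve `t ↦ (t + ξ, c t + η)` through the point `(ξ, η)` -/
def psi (ξ η c : L) : MvPolynomial (Fin 2) κ →ₐ[κ] Polynomial L :=
  aeval ![Polynomial.X + Polynomial.C ξ, Polynomial.C c * Polynomial.X + Polynomial.C η]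

theorem psi_C (ξ η c : L) (x : κ) :
    psi ξ η c (C x) = Polynomial.C (algebraMap κ L x) := by
  simp [psi, Polynomial.algebraMap_apply]

theorem psi_X0 (ξ η c : L) :
    psi (κ := κ) ξ η c (X 0) = Polynomial.X + Polynomial.C ξ := by
  simp [psi]

theorem psi_X1 (ξ η c : L) :
    psi (κ := κ) ξ η c (X 1) = Polynomial.C c * Polynomial.X + Polynomial.C η := by
  simp [psi]

variable [CharP L 2]

theorem two_eq_zero_poly : (2 : Polynomial L) = 0 := by
  have : (2 : L) = 0 := CharTwo.two_eq_zero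
  rw [← map_ofNat (Polynomial.C : L →+* Polynomial L) 2, this, map_zero]

theorem psi_u (ξ η c : L) (α : κ) (hξ : ξ * ξ = algebraMap κ L α) :
    psi ξ η c (X 0 ^ 2 + C α) = Polynomial.X ^ 2 := by
  rw [map_add, map_pow, psi_X0, psi_C, ← hξ, Polynomial.C_mul]
  linear_combination (Polynomial.X * Polynomial.C ξ + Polynomial.C ξ * Polynomial.C ξ) *
    two_eq_zero_poly (L := L)

theorem psi_v (ξ η c : L) (β : κ) (hη : η * η = algebraMap κ L β) :
    psi ξ η c (X 1 ^ 2 + C β) = Polynomial.C (c * c) * Polynomial.X ^ 2 := by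
  rw [map_add, map_pow, psi_X1, psi_C, ← hη, Polynomial.C_mul, Polynomial.C_mul]
  linear_combination (Polynomial.C c * Polynomial.X * Polynomial.C η
    + Polynomial.C η * Polynomial.C η) * two_eq_zero_poly (L := L)

theorem psi_nf (ξ η c : L) (g h i : κ) (hg : g = i * h) (hi : algebraMap κ L i = ξ)
    (hh : algebraMap κ L h = η) :
    psi ξ η c (nfForm g h i 1) = Polynomial.C c * Polynomial.X ^ 2 := by
  simp only [nfForm, map_add, map_mul, psi_C, psi_X0, psi_X1, hg, hi, hh, map_one,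
    Polynomial.C_mul, Polynomial.C_1]
  linear_combination (Polynomial.C ξ * Polynomial.C η * 2 + Polynomial.C η * Polynomial.X
    + Polynomial.C ξ * Polynomial.C c * Polynomial.X) * two_eq_zero_poly (L := L)

theorem sqrt_unique (x y : L) (h : x * x = y * y) : x = y := by
  have h2 : (2 : L) = 0 := CharTwo.two_eq_zero
  have : (x - y) * (x - y) = 0 := by
    linear_combination h - x * y * h2 + y * y * h2
  have := mul_self_eq_zero.mp this
  exact sub_eq_zero.mp this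

end psi

section main

variable [CharP κ 2] {L : Type u} [Field L] [Algebra κ L] [CharP L 2]
  (I : Ideal (MvPolynomial (Fin 2) κ))
  (hI : ¬ (Module.Finite κ (MvPolynomial (Fin 2) κ ⧸ I) ∧
      Module.finrank κ (MvPolynomial (Fin 2) κ ⧸ I) ≤ 1))
  (hno : ∀ g h i : κ, linForm g h i ∈ I → h = 0 ∧ i = 0)
  (α β : κ) (hu : (X 0 ^ 2 + C α : MvPolynomial (Fin 2) κ) ∈ I)
  (hv : (X 1 ^ 2 + C β : MvPolynomial (Fin 2) κ) ∈ I)
  (ξ η : L) (hξ : ξ * ξ = algebraMap κ L α) (hη : η * η = algebraMap κ L β)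

include hI hno hu hv hξ hη

theorem X_sq_dvd_psi (c : L) (z : MvPolynomial (Fin 2) κ) (hz : z ∈ I) :
    (Polynomial.X : Polynomial L) ^ 2 ∣ psi ξ η c z := by
  obtain ⟨z₀, z₁, z₂, z₃, A, B, hzd⟩ := exists_nfForm α β z
  have hnf : nfForm z₀ z₁ z₂ z₃ ∈ I := by
    have : nfForm z₀ z₁ z₂ z₃ = z - A * (X 0 ^ 2 + C α) - B * (X 1 ^ 2 + C β) := by
      rw [hzd]; ring
    rw [this]
    exact I.sub_mem (I.sub_mem hz (I.mul_mem_left _ hu)) (I.mul_mem_left _ hv)
  have hrest : (Polynomial.X : Polynomial L) ^ 2 ∣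
      psi ξ η c (A * (X 0 ^ 2 + C α) + B * (X 1 ^ 2 + C β)) := by
    rw [map_add, map_mul, map_mul, psi_u ξ η c α hξ, psi_v ξ η c β hη]
    exact dvd_add (Dvd.intro_left _ rfl) (Dvd.dvd.mul_left (Dvd.intro_left _ rfl) _)
  have hnfd : (Polynomial.X : Polynomial L) ^ 2 ∣ psi ξ η c (nfForm z₀ z₁ z₂ z₃) := by
    by_cases hz3 : z₃ = 0
    · have hlin : nfForm z₀ z₁ z₂ z₃ = linForm z₀ z₁ z₂ := by
        rw [hz3]; simp [nfForm, linForm]
      rw [hlin] at hnf
      obtain ⟨e0, e1, e2⟩ := linForm_mem_iff I hI hno _ _ _ hnf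
      rw [hlin, e0, e1, e2]
      simp [linForm]
    · have hw : nfForm (z₃⁻¹ * z₀) (z₃⁻¹ * z₁) (z₃⁻¹ * z₂) 1 ∈ I := by
        have : nfForm (z₃⁻¹ * z₀) (z₃⁻¹ * z₁) (z₃⁻¹ * z₂) 1 = C z₃⁻¹ * nfForm z₀ z₁ z₂ z₃ := by
          have h1 : (C z₃⁻¹ * C z₃ : MvPolynomial (Fin 2) κ) = 1 := by
            rw [← C_mul, inv_mul_cancel₀ hz3, C_1]
          simp only [nfForm, C_mul, C_1]
          linear_combination (-(X 0 * X 1)) * h1
        rw [this]; exact I.mul_mem_left _ hnf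
      obtain ⟨eg, eα, eβ⟩ := nf_structure I hI hno α β hu hv _ _ _ hw
      have h2 : (2 : κ) = 0 := CharTwo.two_eq_zero
      have hi : algebraMap κ L (z₃⁻¹ * z₂) = ξ := by
        apply sqrt_unique
        rw [hξ, ← map_mul, eα]
        congr 1
        linear_combination (z₃⁻¹ * z₂ * (z₃⁻¹ * z₂)) * h2
      have hh : algebraMap κ L (z₃⁻¹ * z₁) = η := by
        apply sqrt_unique
        rw [hη, ← map_mul, eβ]
        congr 1
        linear_combination (z₃⁻¹ * z₁ * (z₃⁻¹ * z₁)) * h2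
      have hback : nfForm z₀ z₁ z₂ z₃ = C z₃ * nfForm (z₃⁻¹ * z₀) (z₃⁻¹ * z₁) (z₃⁻¹ * z₂) 1 := by
        have h1 : (C z₃ * C z₃⁻¹ : MvPolynomial (Fin 2) κ) = 1 := by
          rw [← C_mul, mul_inv_cancel₀ hz3, C_1]
        simp only [nfForm, C_mul, C_1]
        linear_combination (-(C z₀ + C z₁ * X 0 + C z₂ * X 1)) * h1
      rw [hback, map_mul, psi_nf ξ η c _ _ _ eg hi hh]
      exact Dvd.dvd.mul_left (Dvd.intro_left _ rfl) _
  rw [hzd, add_assoc, map_add]
  exact dvd_add hnfd hrest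

theorem X_pow_four_dvd_psi (c : L) (z : MvPolynomial (Fin 2) κ) (hz : z ∈ I ^ 2) :
    (Polynomial.X : Polynomial L) ^ 4 ∣ psi ξ η c z := by
  rw [pow_two] at hz
  refine Submodule.mul_induction_on hz ?_ ?_
  · intro a ha b hb
    rw [map_mul, show (4 : ℕ) = 2 + 2 from rfl, pow_add]
    exact mul_dvd_mul (X_sq_dvd_psi I hI hno α β hu hv ξ η hξ hη c a ha)
      (X_sq_dvd_psi I hI hno α β hu hv ξ η hξ hη c b hb)
  · intro a b ha hb
    rw [map_add]; exact dvd_add ha hb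

/-- the key contradiction: `d u + f v ∈ I^2` forces `d = f = 0`. -/
theorem coeff_eq_zero_of_mem_sq (d f : κ)
    (hq : C d * (X 0 ^ 2 + C α) + C f * (X 1 ^ 2 + C β) ∈ I ^ 2) : d = 0 ∧ f = 0 := by
  have key : ∀ c : L, algebraMap κ L d + algebraMap κ L f * (c * c) = 0 := by
    intro c
    have hdvd := X_pow_four_dvd_psi I hI hno α β hu hv ξ η hξ hη c _ hq
    rw [map_add, map_mul, map_mul, psi_u ξ η c α hξ, psi_v ξ η c β hη, psi_C, psi_C] at hdvd
    obtain ⟨P, hP⟩ := hdvd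
    have := congrArg (fun Q => Polynomial.coeff Q 2) hP
    simp only [Polynomial.coeff_add, Polynomial.coeff_C_mul, Polynomial.coeff_X_pow,
      Polynomial.coeff_X_pow_mul'] at this
    simpa using this
  have hd : algebraMap κ L d = 0 := by simpa using key 0
  have hf : algebraMap κ L f = 0 := by
    have := key 1
    rw [hd] at this
    simpa using this
  exact ⟨(map_eq_zero _).mp hd, (map_eq_zero _).mp hf⟩

end main

end Groth.Agent.Lib.Helper6.Quadric
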