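import Mathlib

set_option linter.unusedSectionVars false
set_option linter.unusedVariables false
set_option autoImplicit false
set_option maxHeartbeats 400000

noncomputable section

namespace Groth.Agent.Lib.Helper6.Quadric

universe u

open MvPolynomial

variable {κ : Type u} [Field κ]

/-- if every element is congruent to a constant, the colength is at most one -/
theorem colength_le_one_of_forall (I : Ideal (MvPolynomial (Fin 2) κ))
    (h : ∀ z : MvPolynomial (Fin 2) κ, ∃ c : κ, z - C c ∈ I) :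
    Module.Finite κ (MvPolynomial (Fin 2) κ ⧸ I) ∧
      Module.finrank κ (MvPolynomial (Fin 2) κ ⧸ I) ≤ 1 := by
  have key : ∀ w : MvPolynomial (Fin 2) κ ⧸ I, ∃ c : κ, c • (1 : MvPolynomial (Fin 2) κ ⧸ I) = w := by
    intro w
    obtain ⟨z, rfl⟩ := Ideal.Quotient.mk_surjective w
    obtain ⟨c, hc⟩ := h z
    refine ⟨c, ?_⟩
    have h1 : Ideal.Quotient.mk I z = Ideal.Quotient.mk I (C c) := by
      rw [Ideal.Quotient.eq]; exact hc
    have h2 : (C c : MvPolynomial (Fin 2) κ) = c • (1 : MvPolynomial (Fin 2) κ) := by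
      rw [smul_eq_C_mul, mul_one]
    rw [h1, h2]
    rfl
  refine ⟨?_, finrank_le_one _ key⟩
  refine Module.Finite.of_surjective (LinearMap.toSpanSingleton κ _ (1 : MvPolynomial (Fin 2) κ ⧸ I)) ?_
  intro w
  obtain ⟨c, hc⟩ := key w
  exact ⟨c, by simpa [LinearMap.toSpanSingleton_apply] using hc⟩

theorem ne_top_of_colength (I : Ideal (MvPolynomial (Fin 2) κ))
    (hI : ¬ (Module.Finite κ (MvPolynomial (Fin 2) κ ⧸ I) ∧
      Module.finrank κ (MvPolynomial (Fin 2) κ ⧸ I) ≤ 1)) : I ≠ ⊤ := by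
  rintro rfl
  exact hI (colength_le_one_of_forall _ fun z => ⟨0, Submodule.mem_top⟩)

theorem C_mem_iff_of_colength (I : Ideal (MvPolynomial (Fin 2) κ))
    (hI : ¬ (Module.Finite κ (MvPolynomial (Fin 2) κ ⧸ I) ∧
      Module.finrank κ (MvPolynomial (Fin 2) κ ⧸ I) ≤ 1)) (a : κ) (ha : C a ∈ I) : a = 0 := by
  by_contra h0
  apply ne_top_of_colength I hI
  rw [Ideal.eq_top_iff_one]
  have : (1 : MvPolynomial (Fin 2) κ) = C a⁻¹ * C a := by
    rw [← C_mul, inv_mul_cancel₀ h0, C_1]
  rw [this]
  exact I.mul_mem_left _ ha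

/-- a point `(r, s)` in `V(I)` with `I ⊇ m_{(r,s)}` contradicts colength > 1 -/
theorem colength_le_one_of_point (I : Ideal (MvPolynomial (Fin 2) κ)) (r s : κ)
    (h0 : X 0 - C r ∈ I) (h1 : X 1 - C s ∈ I) :
    Module.Finite κ (MvPolynomial (Fin 2) κ ⧸ I) ∧
      Module.finrank κ (MvPolynomial (Fin 2) κ ⧸ I) ≤ 1 := by
  apply colength_le_one_of_forall
  intro z
  induction z using MvPolynomial.induction_on with
  | C a => exact ⟨a, by simp⟩
  | add p q hp hq =>
    obtain ⟨c, hc⟩ := hp
    obtain ⟨c', hc'⟩ := hq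
    refine ⟨c + c', ?_⟩
    have : p + q - C (c + c') = (p - C c) + (q - C c') := by rw [C_add]; ring
    rw [this]; exact I.add_mem hc hc'
  | mul_X p i hp =>
    obtain ⟨c, hc⟩ := hp
    fin_cases i
    · refine ⟨c * r, ?_⟩
      have : p * X 0 - C (c * r) = (p - C c) * X 0 + C c * (X 0 - C r) := by rw [C_mul]; ring
      simp only [Fin.zero_eta, Fin.isValue]
      rw [this]; exact I.add_mem (I.mul_mem_right _ hc) (I.mul_mem_left _ h0)
    · refine ⟨c * s, ?_⟩
      have : p * X 1 - C (c * s) = (p - C c) * X 1 + C c * (X 1 - C s) := by rw [C_mul]; ring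
      simp only [Fin.mk_one, Fin.isValue]
      rw [this]; exact I.add_mem (I.mul_mem_right _ hc) (I.mul_mem_left _ h1)

section proj

variable (I : Ideal (MvPolynomial (Fin 2) κ))
  (hI : ¬ (Module.Finite κ (MvPolynomial (Fin 2) κ ⧸ I) ∧
      Module.finrank κ (MvPolynomial (Fin 2) κ ⧸ I) ≤ 1))
  (π : MvPolynomial (Fin 2) κ →ₐ[κ] Polynomial κ) (hπ : Function.Surjective π)
  (hker : RingHom.ker (π : MvPolynomial (Fin 2) κ →+* Polynomial κ) ≤ I)

include hI hπ hker

/-- (D): the image of `I` contains no nonzero polynomial of degree `≤ 1`. -/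
theorem eq_zero_of_mem_map_of_natDegree_le_one (g : Polynomial κ)
    (hg : g ∈ Ideal.map (π : MvPolynomial (Fin 2) κ →+* Polynomial κ) I)
    (hdeg : g.natDegree ≤ 1) : g = 0 := by
  by_contra hg0
  apply hI
  apply colength_le_one_of_forall
  intro z
  have hlt : (π z % g).degree < 1 :=
    lt_of_lt_of_le (Polynomial.degree_mod_lt _ hg0)
      (by simpa using Polynomial.degree_le_of_natDegree_le hdeg)
  have hle : (π z % g).degree ≤ 0 := Nat.WithBot.lt_one_iff_le_zero.mp hlt
  have hC := Polynomial.eq_C_of_degree_le_zero hle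
  set c := (π z % g).coeff 0 with hc
  refine ⟨c, ?_⟩
  have hdiv : π z = g * (π z / g) + Polynomial.C c := by
    rw [← hC]; exact (EuclideanDomain.div_add_mod (π z) g).symm
  have hmem : g * (π z / g) ∈ Ideal.map (π : MvPolynomial (Fin 2) κ →+* Polynomial κ) I :=
    Ideal.mul_mem_right _ _ hg
  rw [Ideal.mem_map_iff_of_surjective _ (by exact hπ)] at hmem
  obtain ⟨z', hz'I, hz'⟩ := hmem
  have hk : z - C c - z' ∈ RingHom.ker (π : MvPolynomial (Fin 2) κ →+* Polynomial κ) := by
    rw [RingHom.mem_ker]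
    have hCc : π (C c) = Polynomial.C c := by
      have := π.commutes c
      rwa [MvPolynomial.algebraMap_eq] at this
    have hz'' : π z' = g * (π z / g) := hz'
    show π (z - C c - z') = 0
    rw [map_sub, map_sub, hCc, hz'']
    linear_combination hdiv
  have := I.add_mem (hker hk) hz'I
  simpa using this

/-- (E): the square of the image of `I` contains no nonzero polynomial of degree `≤ 3`. -/
theorem eq_zero_of_mem_map_sq_of_natDegree_le_three (g : Polynomial κ)
    (hg : g ∈ (Ideal.map (π : MvPolynomial (Fin 2) κ →+* Polynomial κ) I) ^ 2)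
    (hdeg : g.natDegree ≤ 3) : g = 0 := by
  obtain ⟨F, hF⟩ := (IsPrincipalIdealRing.principal
    (Ideal.map (π : MvPolynomial (Fin 2) κ →+* Polynomial κ) I)).principal
  have hF' : Ideal.map (π : MvPolynomial (Fin 2) κ →+* Polynomial κ) I = Ideal.span {F} := hF
  rw [hF', Ideal.span_singleton_pow, Ideal.mem_span_singleton] at hg
  by_cases hF0 : F = 0
  · rw [hF0] at hg
    simpa using hg
  · have hFmem : F ∈ Ideal.map (π : MvPolynomial (Fin 2) κ →+* Polynomial κ) I := by
      rw [hF']; exact Ideal.subset_span rfl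
    have h2 : 2 ≤ F.natDegree := by
      by_contra hlt
      exact hF0 (eq_zero_of_mem_map_of_natDegree_le_one I hI π hπ hker F hFmem (by omega))
    by_contra hg0
    have := Polynomial.natDegree_le_of_dvd hg hg0
    rw [Polynomial.natDegree_pow] at this
    omega

/-- generic consequence for an element of `I ^ 2` whose image has small degree -/
theorem proj_eq_zero_of_mem_sq (p : MvPolynomial (Fin 2) κ) (hp : p ∈ I ^ 2)
    (hdeg : (π p).natDegree ≤ 3) : π p = 0 := by
  apply eq_zero_of_mem_map_sq_of_natDegree_le_three I hI π hπ hker _ _ hdeg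
  rw [← Ideal.map_pow]
  exact Ideal.mem_map_of_mem _ hp

theorem proj_eq_zero_of_mem (p : MvPolynomial (Fin 2) κ) (hp : p ∈ I)
    (hdeg : (π p).natDegree ≤ 1) : π p = 0 := by
  apply eq_zero_of_mem_map_of_natDegree_le_one I hI π hπ hker _ _ hdeg
  exact Ideal.mem_map_of_mem _ hp

end proj

/-- derivations send `I ^ 2` into `I` -/
theorem pderiv_mem_of_mem_sq (I : Ideal (MvPolynomial (Fin 2) κ)) (i : Fin 2)
    {p : MvPolynomial (Fin 2) κ} (hp : p ∈ I ^ 2) : pderiv i p ∈ I := by
  rw [pow_two] at hp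
  refine Submodule.mul_induction_on hp ?_ ?_
  · intro a ha b hb
    rw [Derivation.leibniz]
    exact I.add_mem (by rw [smul_eq_mul]; exact I.mul_mem_right _ ha)
      (by rw [smul_eq_mul]; exact I.mul_mem_right _ hb)
  · intro a b ha hb
    rw [map_add]; exact I.add_mem ha hb

theorem quad_eq_zero {α β γ : κ}
    (h : Polynomial.C α + Polynomial.C β * Polynomial.X + Polynomial.C γ * Polynomial.X ^ 2 = 0) :
    α = 0 ∧ β = 0 ∧ γ = 0 := by
  have h0 := congrArg (fun P => Polynomial.coeff P 0) h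
  have h1 := congrArg (fun P => Polynomial.coeff P 1) h
  have h2 := congrArg (fun P => Polynomial.coeff P 2) h
  simp [Polynomial.coeff_X, Polynomial.coeff_C, Polynomial.coeff_X_pow] at h0 h1 h2
  exact ⟨h0, h1, h2⟩

theorem lin_eq_zero {α β : κ}
    (h : Polynomial.C α + Polynomial.C β * Polynomial.X = 0) :
    α = 0 ∧ β = 0 := by
  have h0 := congrArg (fun P => Polynomial.coeff P 0) h
  have h1 := congrArg (fun P => Polynomial.coeff P 1) h
  simp [Polynomial.coeff_X, Polynomial.coeff_C] at h0 h1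
  exact ⟨h0, h1⟩

end Groth.Agent.Lib.Helper6.Quadric
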