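import Groth.Agent.Lib.Helper6.Quadric.CaseB

set_option linter.unusedSectionVars false
set_option linter.unusedVariables false
set_option linter.unusedSimpArgs false
set_option autoImplicit false
set_option maxHeartbeats 400000

noncomputable section

namespace Groth.Agent.Lib.Helper6.Quadric

universe u

open MvPolynomial

variable {κ : Type u} [Field κ]

theorem coeffMap_sqForm (θ : κ →+ κ) (hθ : ∀ a b : κ, θ (a * b) = a * θ b + b * θ a)
    (a d f : κ) : coeffMap θ (sqForm a d f) = sqForm (θ a) (θ d) (θ f) := by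
  simp only [sqForm, coeffMap_add, coeffMap_C, coeffMap_C_mul_X_pow θ hθ]

section charTwo

variable [CharP κ 2] (I : Ideal (MvPolynomial (Fin 2) κ))
  (hI : ¬ (Module.Finite κ (MvPolynomial (Fin 2) κ ⧸ I) ∧
      Module.finrank κ (MvPolynomial (Fin 2) κ ⧸ I) ≤ 1))
  (hno : ∀ g h i : κ, linForm g h i ∈ I → h = 0 ∧ i = 0)
  (a d f : κ) (hne : ¬ (a = 0 ∧ d = 0 ∧ f = 0)) (hq : sqForm a d f ∈ I ^ 2)

include hI hno hne hq

theorem no_two_indep (a₁ d₁ f₁ a₂ d₂ f₂ : κ) (h₁ : sqForm a₁ d₁ f₁ ∈ I)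
    (h₂ : sqForm a₂ d₂ f₂ ∈ I) :
    a₁ * d₂ = a₂ * d₁ ∧ a₁ * f₂ = a₂ * f₁ ∧ d₁ * f₂ = d₂ * f₁ := by
  have e1 : C (a₁ * f₂ - a₂ * f₁) + C (d₁ * f₂ - d₂ * f₁) * X 0 ^ 2 ∈ I := by
    have : (C (a₁ * f₂ - a₂ * f₁) + C (d₁ * f₂ - d₂ * f₁) * X 0 ^ 2 : MvPolynomial (Fin 2) κ)
        = C f₂ * sqForm a₁ d₁ f₁ - C f₁ * sqForm a₂ d₂ f₂ := by
      simp only [sqForm, C_sub, C_mul]; ring
    rw [this]; exact I.sub_mem (I.mul_mem_left _ h₁) (I.mul_mem_left _ h₂)
  have e2 : C (a₁ * d₂ - a₂ * d₁) - C (d₁ * f₂ - d₂ * f₁) * X 1 ^ 2 ∈ I := by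
    have : (C (a₁ * d₂ - a₂ * d₁) - C (d₁ * f₂ - d₂ * f₁) * X 1 ^ 2 : MvPolynomial (Fin 2) κ)
        = C d₂ * sqForm a₁ d₁ f₁ - C d₁ * sqForm a₂ d₂ f₂ := by
      simp only [sqForm, C_sub, C_mul]; ring
    rw [this]; exact I.sub_mem (I.mul_mem_left _ h₁) (I.mul_mem_left _ h₂)
  by_cases hD : d₁ * f₂ - d₂ * f₁ = 0
  · rw [hD] at e1 e2
    simp only [C_0, zero_mul, add_zero, sub_zero] at e1 e2
    have := C_mem_iff_of_colength I hI _ e1
    have := C_mem_iff_of_colength I hI _ e2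
    refine ⟨by linear_combination this, by linear_combination ‹a₁ * f₂ - a₂ * f₁ = 0›,
      by linear_combination hD⟩
  · exfalso
    set D := d₁ * f₂ - d₂ * f₁ with hDdef
    set α : κ := D⁻¹ * (a₁ * f₂ - a₂ * f₁) with hα
    set β : κ := -(D⁻¹ * (a₁ * d₂ - a₂ * d₁)) with hβ
    have hCD : (C D⁻¹ * C D : MvPolynomial (Fin 2) κ) = 1 := by
      rw [← C_mul, inv_mul_cancel₀ hD, C_1]
    have hu : (X 0 ^ 2 + C α : MvPolynomial (Fin 2) κ) ∈ I := by
      have : (X 0 ^ 2 + C α : MvPolynomial (Fin 2) κ)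
          = C D⁻¹ * (C (a₁ * f₂ - a₂ * f₁) + C D * X 0 ^ 2) := by
        rw [hα, C_mul]
        linear_combination (-(X 0 ^ 2 : MvPolynomial (Fin 2) κ)) * hCD
      rw [this]; exact I.mul_mem_left _ e1
    have hv : (X 1 ^ 2 + C β : MvPolynomial (Fin 2) κ) ∈ I := by
      have : (X 1 ^ 2 + C β : MvPolynomial (Fin 2) κ)
          = -(C D⁻¹ * (C (a₁ * d₂ - a₂ * d₁) - C D * X 1 ^ 2)) := by
        rw [hβ, C_neg, C_mul]
        linear_combination (-(X 1 ^ 2 : MvPolynomial (Fin 2) κ)) * hCD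
      rw [this]; exact I.neg_mem (I.mul_mem_left _ e2)
    have hqI : sqForm a d f ∈ I := Ideal.pow_le_self two_ne_zero hq
    have hconst : C (a - d * α - f * β) ∈ I := by
      have : (C (a - d * α - f * β) : MvPolynomial (Fin 2) κ)
          = sqForm a d f - C d * (X 0 ^ 2 + C α) - C f * (X 1 ^ 2 + C β) := by
        simp only [sqForm, C_sub, C_mul]; ring
      rw [this]
      exact I.sub_mem (I.sub_mem hqI (I.mul_mem_left _ hu)) (I.mul_mem_left _ hv)
    have ha := C_mem_iff_of_colength I hI _ hconst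
    have hq' : C d * (X 0 ^ 2 + C α) + C f * (X 1 ^ 2 + C β) ∈ I ^ 2 := by
      have : (C d * (X 0 ^ 2 + C α) + C f * (X 1 ^ 2 + C β) : MvPolynomial (Fin 2) κ)
          = sqForm a d f := by
        have ha' : a = d * α + f * β := by linear_combination ha
        rw [ha']
        simp only [sqForm, C_add, C_mul]; ring
      rw [this]; exact hq
    obtain ⟨ξ, hξ⟩ := IsAlgClosed.exists_eq_mul_self (algebraMap κ (AlgebraicClosure κ) α)
    obtain ⟨η, hη⟩ := IsAlgClosed.exists_eq_mul_self (algebraMap κ (AlgebraicClosure κ) β)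
    obtain ⟨hd0, hf0⟩ := coeff_eq_zero_of_mem_sq (L := AlgebraicClosure κ) I hI hno α β hu hv ξ η
      hξ.symm hη.symm d f hq'
    apply hne
    refine ⟨?_, hd0, hf0⟩
    rw [hd0, hf0] at ha
    linear_combination ha

/-- if all "minors" against derivations vanish, the ratio is a square -/
theorem ratio_square (x y : κ) (hy : y ≠ 0)
    (hm : ∀ θ : κ →+ κ, (∀ a b : κ, θ (a * b) = a * θ b + b * θ a) → x * θ y = θ x * y) :
    ∃ g : κ, x = y * (g * g) := by
  by_contra hcon
  have hns : ∀ r : κ, r * r ≠ x / y := by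
    intro r hr
    apply hcon
    refine ⟨r, ?_⟩
    rw [hr]; field_simp
  obtain ⟨θ, hθ, hθ1⟩ := exists_derivation_of_not_square (x / y) hns
  have hx : x = y * (x / y) := by field_simp
  have h1 : θ x = y * θ (x / y) + (x / y) * θ y := by
    conv_lhs => rw [hx]
    exact hθ _ _
  have h2 := hm θ hθ
  rw [h1, hθ1] at h2
  have : y * y = 0 := by
    have h3 : x / y * θ y * y = x * θ y := by field_simp
    linear_combination -h2 - h3
  exact hy (mul_self_eq_zero.mp this)

theorem caseB : ∃ j g h i : κ, sqForm a d f = C j * (linForm g h i) ^ 2 := by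
  have h2 : (2 : MvPolynomial (Fin 2) κ) = 0 := by
    have : (2 : κ) = 0 := CharTwo.two_eq_zero
    rw [← map_ofNat (C : κ →+* MvPolynomial (Fin 2) κ) 2, this, map_zero]
  have hqI : sqForm a d f ∈ I := Ideal.pow_le_self two_ne_zero hq
  have hminor : ∀ θ : κ →+ κ, (∀ a b : κ, θ (a * b) = a * θ b + b * θ a) →
      a * θ d = θ a * d ∧ a * θ f = θ a * f ∧ d * θ f = θ d * f := by
    intro θ hθ
    have hmem : sqForm (θ a) (θ d) (θ f) ∈ I := by
      rw [← coeffMap_sqForm θ hθ]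
      apply coeffMap_mem_of_mem_mul θ hθ I
      rw [← pow_two]; exact hq
    exact no_two_indep I hI hno a d f hne hq a d f (θ a) (θ d) (θ f) hqI hmem
  by_cases hf : f = 0
  · by_cases hd : d = 0
    · refine ⟨a, 1, 0, 0, ?_⟩
      rw [hf, hd]
      simp [sqForm, linForm]
    · obtain ⟨g, hg⟩ := ratio_square I hI hno a d f hne hq a d hd
        (fun θ hθ => (hminor θ hθ).1)
      refine ⟨d, g, 1, 0, ?_⟩
      rw [hf, hg]
      simp only [sqForm, linForm, C_mul, C_0, C_1, zero_mul, add_zero, one_mul]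
      linear_combination (-(C d * C g * X 0 : MvPolynomial (Fin 2) κ)) * h2
  · obtain ⟨g, hg⟩ := ratio_square I hI hno a d f hne hq a f hf
      (fun θ hθ => (hminor θ hθ).2.1)
    obtain ⟨h, hh⟩ := ratio_square I hI hno a d f hne hq d f hf
      (fun θ hθ => (hminor θ hθ).2.2)
    refine ⟨f, g, h, 1, ?_⟩
    rw [hg, hh]
    simp only [sqForm, linForm, C_mul, C_1, one_mul]
    linear_combination (-(C f * (C g * C h * X 0 + C g * X 1 + C h * X 0 * X 1)
      : MvPolynomial (Fin 2) κ)) * h2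

end charTwo

/-- **Main theorem.** -/
theorem quadric_main (I : Ideal (MvPolynomial (Fin 2) κ))
    (hI : ¬ (Module.Finite κ (MvPolynomial (Fin 2) κ ⧸ I) ∧
      Module.finrank κ (MvPolynomial (Fin 2) κ ⧸ I) ≤ 1))
    (a b c d e f : κ) (hne : (a, b, c, d, e, f) ≠ (0, 0, 0, 0, 0, 0))
    (hmem : quadForm a b c d e f ∈ I ^ 2) :
    ∃ j g h i : κ, quadForm a b c d e f = C j * (linForm g h i) ^ 2 := by
  by_cases hex : ∃ g h i : κ, (h ≠ 0 ∨ i ≠ 0) ∧ linForm g h i ∈ I
  · obtain ⟨g, h, i, hhi, hl⟩ := hex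
    exact caseA I hI g h i hhi hl a b c d e f hmem
  · have hno : ∀ g h i : κ, linForm g h i ∈ I → h = 0 ∧ i = 0 := by
      intro g h i hl
      by_contra hcon
      apply hex
      refine ⟨g, h, i, ?_, hl⟩
      by_contra hc2
      push Not at hc2
      exact hcon hc2
    have hp0 := pderiv_mem_of_mem_sq I 0 hmem
    have hp1 := pderiv_mem_of_mem_sq I 1 hmem
    rw [pderiv0_quadForm] at hp0
    rw [pderiv1_quadForm] at hp1
    obtain ⟨hb, hd2, he⟩ := linForm_mem_iff I hI hno _ _ _ hp0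
    obtain ⟨hc, -, hf2⟩ := linForm_mem_iff I hI hno _ _ _ hp1
    have hform : quadForm a b c d e f = sqForm a d f := by
      rw [hb, hc, he]; simp [quadForm, sqForm]
    by_cases h2 : (2 : κ) = 0
    · haveI : CharP κ 2 := CharTwo.of_one_ne_zero_of_two_eq_zero one_ne_zero h2
      rw [hform] at hmem ⊢
      apply caseB I hI hno a d f _ hmem
      rintro ⟨ha0, hd0, hf0⟩
      apply hne
      rw [ha0, hb, hc, hd0, he, hf0]
    · exfalso
      have hd0 : d = 0 := by
        rcases mul_eq_zero.mp hd2 with h | h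
        · exact absurd h h2
        · exact h
      have hf0 : f = 0 := by
        rcases mul_eq_zero.mp hf2 with h | h
        · exact absurd h h2
        · exact h
      have hCa : C a ∈ I := by
        have : quadForm a b c d e f = C a := by
          rw [hb, hc, hd0, he, hf0]; simp [quadForm]
        rw [this] at hmem
        exact Ideal.pow_le_self two_ne_zero hmem
      have ha0 := C_mem_iff_of_colength I hI a hCa
      apply hne
      rw [ha0, hb, hc, hd0, he, hf0]

end Groth.Agent.Lib.Helper6.Quadric
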